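import Mathlib
import Cfsg.Agent.Lib.LocalEvenB.CyclicIntersections.Basic
import Cfsg.Agent.Lib.Solvable.FrattiniFitting
import Cfsg.Agent.Lib.RankOne.Inverted

/-!
# A non-central normal cyclic 2-subgroup in the cyclic-intersection situation
-/

set_option autoImplicit false
set_option linter.style.haveILetI false
set_option linter.unusedSectionVars false

open Cfsg
open scoped commutatorElement

namespace CfsgLib.LocalEvenB.CyclicInter

universe u

variable {G : Type u} [Group G] [Finite G]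

/-- The centraliser of the 2-core. -/
abbrev cV (G : Type u) [Group G] : Subgroup G :=
  Subgroup.centralizer (pCore 2 G : Set G)

/-- The data of a hypothetical counterexample. -/
structure Ctx (G : Type u) [Group G] (z v : G) : Prop where
  ft : FTApps.OddSolvable.{u}
  ns : ¬ Group.IsSolvable G
  ci : CI G
  ne_top : cV G ≠ ⊤
  cyc : IsCyclic (pCore 2 G)
  z_mem : z ∈ pCore 2 G
  z_sq : z * z = 1
  z_ne : z ≠ 1
  v_mem : v ∈ pCore 2 G
  v_sq : v * v = z
  z_central : z ∈ Subgroup.center G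
  pow_cV : ∀ g : G, ∃ k : ℕ, g ^ 2 ^ k ∈ cV G

variable {z v : G}

theorem exists_other_sylow (hFT : FTApps.OddSolvable.{u}) (hns : ¬ Group.IsSolvable G)
    (S : Sylow 2 G) : ∃ T : Sylow 2 G, T ≠ S := by
  haveI : Fact (Nat.Prime 2) := ⟨Nat.prime_two⟩
  by_contra h
  push Not at h
  haveI : Subsingleton (Sylow 2 G) := ⟨fun a b => (h a).trans (h b).symm⟩
  haveI : (S : Subgroup G).Normal := Sylow.normal_of_subsingleton S
  haveI : Group.IsNilpotent (S : Subgroup G) := S.isPGroup'.isNilpotent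
  exact hns (FTApps.isSolvable_of_odd_index hFT (S : Subgroup G) inferInstance
    (Nat.not_even_iff_odd.mp fun he => S.not_dvd_index (even_iff_two_dvd.mp he)))

theorem isCyclic_pCore (hFT : FTApps.OddSolvable.{u}) (hns : ¬ Group.IsSolvable G) (hC : CI G) :
    IsCyclic (pCore 2 G) := by
  haveI : Fact (Nat.Prime 2) := ⟨Nat.prime_two⟩
  obtain ⟨S⟩ : Nonempty (Sylow 2 G) := inferInstance
  obtain ⟨T, hT⟩ := exists_other_sylow hFT hns S
  haveI := hC T S hT
  exact Subgroup.isCyclic_of_le (H' := (T : Subgroup G) ⊓ (S : Subgroup G))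
    (le_inf (CfsgLib.Solvable.Cores.pCore_le_sylow T) (CfsgLib.Solvable.Cores.pCore_le_sylow S))

theorem Ctx.mk' (hFT : FTApps.OddSolvable.{u}) (hns : ¬ Group.IsSolvable G) (hC : CI G)
    (hne : ¬ pCore 2 G ≤ Subgroup.center G) : ∃ z v : G, Ctx G z v := by
  haveI : Fact (Nat.Prime 2) := ⟨Nat.prime_two⟩
  haveI hcyc := isCyclic_pCore hFT hns hC
  haveI : (pCore 2 G).Normal := CfsgLib.Solvable.Cores.pCore_normal 2
  obtain ⟨n, hn⟩ := (CfsgLib.Solvable.Cores.isPGroup_pCore (G := G) 2).exists_card_eq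
  have htop : cV G ≠ ⊤ := fun h => hne fun x hx => Subgroup.mem_center_iff.mpr fun g =>
    (Subgroup.mem_centralizer_iff.mp (h ▸ Subgroup.mem_top g : g ∈ cV G) x hx).symm
  obtain ⟨a, ha⟩ := hcyc.exists_generator
  have hord : orderOf (a : G) = 2 ^ n := by
    rw [Subgroup.orderOf_coe, orderOf_eq_card_of_forall_mem_zpowers ha, hn]
  have hcentral : ∀ x ∈ pCore 2 G, x * x = 1 → x ∈ Subgroup.center G := fun x hx hx2 =>
    Subgroup.mem_center_iff.mpr fun g => by
      by_cases hx1 : x = 1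
      · simp [hx1]
      have hc : g * x * g⁻¹ ∈ pCore 2 G := (CfsgLib.Solvable.Cores.pCore_normal (G := G) 2).conj_mem x hx g
      have h2 : g * x * g⁻¹ * (g * x * g⁻¹) = 1 := by
        calc g * x * g⁻¹ * (g * x * g⁻¹) = g * (x * x) * g⁻¹ := by group
          _ = 1 := by rw [hx2]; group
      have := eq_of_two_invol hcyc hc hx h2 hx2 (fun e => hx1 (conj_eq_one_iff.mp e)) hx1
      exact mul_inv_eq_iff_eq_mul.mp this
  have hn2 : 2 ≤ n := by
    by_contra hlt
    refine hne fun x hx => hcentral x hx ?_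
    have h1 : x ^ Nat.card (pCore 2 G) = 1 := CfsgLib.RankOne.pow_card_mem hx
    rw [hn] at h1
    rcases (show n = 0 ∨ n = 1 by omega) with rfl | rfl
    · rw [pow_zero, pow_one] at h1; rw [h1, one_mul]
    · rw [pow_one, pow_two] at h1; exact h1
  obtain ⟨m, rfl⟩ : ∃ m, n = m + 2 := ⟨n - 2, by omega⟩
  refine ⟨(a : G) ^ 2 ^ (m + 1), (a : G) ^ 2 ^ m, ⟨hFT, hns, hC, htop, hcyc, pow_mem a.2 _, ?_, ?_,
    pow_mem a.2 _, ?_, hcentral _ (pow_mem a.2 _) ?_, fun g => ?_⟩⟩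
  · rw [← pow_add, ← two_mul, ← pow_succ', ← hord, pow_orderOf_eq_one]
  · refine pow_ne_one_of_lt_orderOf (by positivity) ?_
    rw [hord]; exact Nat.pow_lt_pow_succ one_lt_two
  · rw [← pow_add, ← two_mul, ← pow_succ']
  · rw [← pow_add, ← two_mul, ← pow_succ', ← hord, pow_orderOf_eq_one]
  · set f := MulAut.conjNormal (H := pCore 2 G) (G := G)
    have hp : IsPGroup 2 (MulAut (pCore 2 G)) := IsPGroup.of_card (n := m + 1) (by
      rw [IsCyclic.card_mulAut, hn, Nat.totient_prime_pow Nat.prime_two (by omega)]; simp)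
    obtain ⟨k, hk⟩ := hp (f g)
    refine ⟨k, Subgroup.mem_centralizer_iff.mpr fun x hx => ?_⟩
    have := congrArg (fun φ : MulAut (pCore 2 G) => (φ ⟨x, hx⟩ : G))
      ((map_pow f g (2 ^ k)).trans hk)
    simp only [f, MulAut.conjNormal_apply] at this
    exact (mul_inv_eq_iff_eq_mul.mp this).symm

namespace Ctx

variable (h : Ctx G z v)
include h

theorem le_sylow (S : Sylow 2 G) : pCore 2 G ≤ (S : Subgroup G) := by
  haveI : Fact (Nat.Prime 2) := ⟨Nat.prime_two⟩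
  exact CfsgLib.Solvable.Cores.pCore_le_sylow S

theorem normal_cV : (cV G).Normal := by
  haveI : (pCore 2 G).Normal := CfsgLib.Solvable.Cores.pCore_normal 2
  infer_instance

theorem le_cV : pCore 2 G ≤ cV G := fun x hx => Subgroup.mem_centralizer_iff.mpr fun y hy => by
  haveI := h.cyc
  letI := IsCyclic.commGroup (α := pCore 2 G)
  exact congrArg Subtype.val (mul_comm (⟨y, hy⟩ : pCore 2 G) ⟨x, hx⟩)

theorem commutator_le : commutator G ≤ cV G := by
  haveI : (pCore 2 G).Normal := CfsgLib.Solvable.Cores.pCore_normal 2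
  haveI := h.cyc
  exact CfsgLib.LocalEvenB.OddTransitive.commutator_le_centralizer

theorem comm_mem (g k : G) : g * k * g⁻¹ * k⁻¹ ∈ cV G :=
  h.commutator_le (Subgroup.commutator_mem_commutator (Subgroup.mem_top g) (Subgroup.mem_top k))

theorem mem_cV_of_odd {g : G} {m : ℕ} (hm : Odd m) (hg : g ^ m ∈ cV G) : g ∈ cV G := by
  obtain ⟨k, hk⟩ := h.pow_cV g
  have hco : Nat.Coprime (2 ^ k) m := Nat.Coprime.pow_left _ (Nat.coprime_two_left.mpr hm)
  have h1 : (g : G) = (g ^ 2 ^ k) ^ Nat.gcdA (2 ^ k) m * (g ^ m) ^ Nat.gcdB (2 ^ k) m := by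
    have hb := Nat.gcd_eq_gcd_ab (2 ^ k) m
    rw [hco] at hb
    conv_lhs => rw [← zpow_one g, show (1 : ℤ) = ((2 ^ k : ℕ) : ℤ) * Nat.gcdA (2 ^ k) m +
      (m : ℤ) * Nat.gcdB (2 ^ k) m from hb]
    rw [zpow_add, zpow_mul, zpow_mul, zpow_natCast, zpow_natCast]
  rw [h1]
  exact mul_mem (zpow_mem hk _) (zpow_mem hg _)

theorem mem_cV_of_orderOf_odd {g : G} (hg : Odd (orderOf g)) : g ∈ cV G :=
  h.mem_cV_of_odd hg (by rw [pow_orderOf_eq_one]; exact one_mem _)

theorem not_solvable_cV : ¬ Group.IsSolvable (cV G) := fun hs => h.ns <| by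
  haveI := h.normal_cV
  haveI : Group.IsSolvable (G ⧸ cV G) := Group.isSolvable_of_comm fun a b => by
    obtain ⟨x, rfl⟩ := QuotientGroup.mk'_surjective (cV G) a
    obtain ⟨y, rfl⟩ := QuotientGroup.mk'_surjective (cV G) b
    rw [← map_mul, ← map_mul]
    refine QuotientGroup.eq.mpr ?_
    have := h.comm_mem y⁻¹ x⁻¹
    simpa [mul_assoc] using this
  haveI := hs
  exact Group.isSolvable_of_ker_le_range (cV G).subtype (QuotientGroup.mk' (cV G)) (by simp)

theorem z_comm (g : G) : g * z = z * g := Subgroup.mem_center_iff.mp h.z_central g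

theorem eq_one_or_z {x : G} (hx : x ∈ pCore 2 G) (hx2 : x * x = 1) : x = 1 ∨ x = z := by
  by_cases h1 : x = 1
  · exact Or.inl h1
  · exact Or.inr (eq_of_two_invol h.cyc hx h.z_mem hx2 h.z_sq h1 h.z_ne)

/-- An element outside the centraliser lies in at most one Sylow 2-subgroup. -/
theorem unique_out {x : G} (hx : x ∉ cV G) {S T : Sylow 2 G} (hS : x ∈ S) (hT : x ∈ T) : S = T := by
  by_contra hne
  refine hx (Subgroup.mem_centralizer_iff.mpr fun y hy => ?_)
  haveI := h.ci S T hne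
  letI := IsCyclic.commGroup (α := ↥((S : Subgroup G) ⊓ (T : Subgroup G)))
  exact congrArg Subtype.val (mul_comm
    (⟨y, h.le_sylow S hy, h.le_sylow T hy⟩ : ↥((S : Subgroup G) ⊓ (T : Subgroup G))) ⟨x, hS, hT⟩)

/-- An involution outside the 2-core lies in at most one Sylow 2-subgroup. -/
theorem unique_invol {u : G} (hu : u * u = 1) (huV : u ∉ pCore 2 G) {S T : Sylow 2 G} (hS : u ∈ S)
    (hT : u ∈ T) : S = T := by
  by_contra hne
  exact huV (eq_of_two_invol (h.ci S T hne) ⟨hS, hT⟩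
    ⟨h.le_sylow S h.z_mem, h.le_sylow T h.z_mem⟩ hu h.z_sq
    (fun e => huV (e ▸ one_mem _)) h.z_ne ▸ h.z_mem)

theorem mem_of_conj_invol {u g : G} (hu : u * u = 1) (huV : u ∉ pCore 2 G) {B : Sylow 2 G}
    (huB : u ∈ B) (hg : IsPGroup 2 (Subgroup.zpowers g))
    (hgu : g * u * g⁻¹ = u ∨ g * u * g⁻¹ = u * z) : g ∈ B := by
  refine mem_sylow_of_normalizes hg B (Sylow.smul_eq_iff_mem_normalizer.mp ?_)
  have h1 : u ∈ g • B := by
    have hz : z ∈ g • B := h.le_sylow _ h.z_mem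
    have h2 : g * u * g⁻¹ ∈ g • B := ⟨u, huB, rfl⟩
    rcases hgu with e | e
    · rwa [e] at h2
    · rw [e] at h2
      have := mul_mem h2 hz
      rwa [mul_assoc, h.z_sq, mul_one] at this
  exact h.unique_invol hu huV h1 huB

theorem mem_of_conj_out {w g : G} (hw : w ∉ cV G) {B : Sylow 2 G} (hwB : w ∈ B)
    (hg : IsPGroup 2 (Subgroup.zpowers g)) {c : G} (hc : c ∈ pCore 2 G)
    (hgw : g * w * g⁻¹ = w * c) : g ∈ B := by
  refine mem_sylow_of_normalizes hg B (Sylow.smul_eq_iff_mem_normalizer.mp ?_)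
  have h2 : g * w * g⁻¹ ∈ g • B := ⟨w, hwB, rfl⟩
  rw [hgw] at h2
  have h1 : w ∈ g • B := by
    have := mul_mem h2 (inv_mem (h.le_sylow (g • B) hc))
    rwa [mul_inv_cancel_right] at this
  exact h.unique_out hw h1 hwB

theorem isPGroup_zpowers_pCore {c : G} (hc : c ∈ pCore 2 G) : IsPGroup 2 (Subgroup.zpowers c) :=
  isPGroup_zpowers_of_mem (CfsgLib.Solvable.Cores.isPGroup_pCore 2) hc

/-- An element with square in the core either generates a larger cyclic group or gives an involution. -/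
theorem exists_invol_of_sq {w : G} (hwC : w ∈ cV G) (hwV : w ∉ pCore 2 G)
    (hw2 : w * w ∈ pCore 2 G) :
    pCore 2 G ≤ Subgroup.zpowers w ∨
      ∃ c ∈ pCore 2 G, (w * c) * (w * c) = 1 ∧ w * c ∉ pCore 2 G := by
  haveI : Fact (Nat.Prime 2) := ⟨Nat.prime_two⟩
  obtain ⟨a, ha⟩ := h.cyc.exists_generator
  obtain ⟨i, hi⟩ := Subgroup.mem_zpowers_iff.mp (ha ⟨w * w, hw2⟩)
  have hi' : (a : G) ^ i = w * w := congrArg Subtype.val hi
  have hwa : w * (a : G) = a * w := (Subgroup.mem_centralizer_iff.mp hwC a a.2).symm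
  rcases Int.even_or_odd i with ⟨l, rfl⟩ | hodd
  · refine Or.inr ⟨(a : G) ^ (-l), zpow_mem a.2 _, ?_, fun hc => hwV ?_⟩
    · have hc : Commute w ((a : G) ^ (-l)) := (show Commute w (a : G) from hwa).zpow_right _
      rw [mul_assoc, ← mul_assoc ((a : G) ^ (-l)), ← hc.eq, mul_assoc, ← mul_assoc w, ← hi',
        ← zpow_add, ← zpow_add]
      rw [show l + l + (-l + -l) = 0 by ring, zpow_zero]
    · have := mul_mem hc (inv_mem (zpow_mem a.2 (-l)))
      rwa [mul_inv_cancel_right] at this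
  · refine Or.inl fun x hx => ?_
    obtain ⟨n, hn⟩ := (CfsgLib.Solvable.Cores.isPGroup_pCore (G := G) 2).exists_card_eq
    have hpow : (a : G) ^ (2 ^ n) = 1 := hn ▸ CfsgLib.RankOne.pow_card_mem a.2
    have hco : IsCoprime i ((2 : ℤ) ^ n) := IsCoprime.pow_right (by
      obtain ⟨l, rfl⟩ := hodd
      exact ⟨1, -l, by ring⟩)
    obtain ⟨r, s, hrs⟩ := hco
    have hgen : (a : G) ∈ Subgroup.zpowers w := by
      have : (a : G) = (w * w) ^ r := by
        rw [← hi', ← zpow_mul]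
        conv_lhs => rw [← zpow_one (a : G), ← hrs, zpow_add, mul_comm s, zpow_mul _ ((2 : ℤ) ^ n) s]
        rw [show ((2 : ℤ) ^ n) = ((2 ^ n : ℕ) : ℤ) by simp, zpow_natCast, hpow, one_zpow, mul_one,
          mul_comm i r]
      rw [this]
      exact zpow_mem (mul_mem (Subgroup.mem_zpowers w) (Subgroup.mem_zpowers w)) r
    obtain ⟨k, hk⟩ := Subgroup.mem_zpowers_iff.mp (ha ⟨x, hx⟩)
    rw [show x = (a : G) ^ k from (congrArg Subtype.val hk).symm]
    exact zpow_mem hgen k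

/-- Each Sylow 2-subgroup has an involution outside the core, central modulo the core involution. -/
theorem exists_u (S : Sylow 2 G) :
    ∃ u : G, u ∈ S ∧ u ∈ cV G ∧ u * u = 1 ∧ u ∉ pCore 2 G ∧
      ∀ s ∈ S, s * u * s⁻¹ = u ∨ s * u * s⁻¹ = u * z := by
  classical
  haveI : Fact (Nat.Prime 2) := ⟨Nat.prime_two⟩
  haveI := h.normal_cV
  set W := (S : Subgroup G) ⊓ cV G with hW
  -- a maximal cyclic invariant subgroup
  let P : Subgroup G → Prop := fun A => pCore 2 G ≤ A ∧ A ≤ W ∧ IsCyclic A ∧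
    ∀ s ∈ S, ∀ x ∈ A, s * x * s⁻¹ ∈ A
  have hP0 : P (pCore 2 G) := ⟨le_rfl, le_inf (h.le_sylow S) h.le_cV, h.cyc,
    fun s _ x hx => (CfsgLib.Solvable.Cores.pCore_normal (G := G) 2).conj_mem x hx s⟩
  obtain ⟨A, hA, hmax⟩ := ((Set.toFinite {A : Subgroup G | P A}).toFinset).exists_max_image
    (fun A : Subgroup G => Nat.card A) ⟨pCore 2 G, by simpa using hP0⟩
  simp only [Set.Finite.mem_toFinset, Set.mem_ofPred_eq] at hA hmax
  obtain ⟨hVA, hAW, hAc, hAinv⟩ := hA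
  have hWA : ¬ W ≤ A := fun hle => h.not_solvable_cV (by
    haveI : IsCyclic W := Subgroup.isCyclic_of_le (H' := A) hle
    obtain ⟨U⟩ : Nonempty (Sylow 2 (cV G)) := inferInstance
    obtain ⟨R, hR⟩ := (U.isPGroup'.map (cV G).subtype).exists_le_sylow
    obtain ⟨g, hg⟩ := MulAction.exists_smul_eq G S R
    have hmem : ∀ x : (U : Subgroup (cV G)), g⁻¹ * ((x : cV G) : G) * g ∈ W := fun x => by
      refine ⟨?_, h.normal_cV.conj_mem' _ (x : cV G).2 g⟩
      have hx : ((x : cV G) : G) ∈ (R : Subgroup G) := hR ⟨x, x.2, rfl⟩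
      rw [← hg] at hx
      obtain ⟨y, hy, e⟩ := hx
      change g * y * g⁻¹ = _ at e
      rw [← e]; simpa [mul_assoc] using hy
    let f : (U : Subgroup (cV G)) →* W := MonoidHom.mk' (fun x => ⟨_, hmem x⟩) (fun x y => Subtype.ext
      (show g⁻¹ * (((x : cV G) : G) * ((y : cV G) : G)) * g = _ by simp [mul_assoc]))
    have hf : Function.Injective f := fun x y e => Subtype.ext (Subtype.ext
      (mul_left_cancel (mul_right_cancel (congrArg Subtype.val e))))
    exact isSolvable_of_cyclic_sylow h.ft U (isCyclic_of_injective f hf))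
  -- an element central modulo `A`
  set A' := A.subgroupOf (S : Subgroup G) with hA'
  haveI : A'.Normal := ⟨fun x hx s => hAinv s s.2 x hx⟩
  set W' := W.subgroupOf (S : Subgroup G) with hW'
  haveI : W'.Normal := ⟨fun x hx s => Subgroup.mem_subgroupOf.mpr (Subgroup.mem_inf.mpr
    ⟨(s * x * s⁻¹).2, h.normal_cV.conj_mem _ (Subgroup.mem_inf.mp hx).2 s⟩)⟩
  haveI : Group.IsNilpotent ((S : Subgroup G) ⧸ A') := (S.isPGroup'.to_quotient A').isNilpotent
  haveI hNn : (W'.map (QuotientGroup.mk' A')).Normal :=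
    Subgroup.Normal.map inferInstance _ (QuotientGroup.mk'_surjective A')
  have hN : W'.map (QuotientGroup.mk' A') ≠ ⊥ := fun he => hWA fun x hx => by
    have hx' : (⟨x, hx.1⟩ : (S : Subgroup G)) ∈ W' := hx
    have := Subgroup.mem_map_of_mem (QuotientGroup.mk' A') hx'
    rw [he, Subgroup.mem_bot, QuotientGroup.mk'_apply, QuotientGroup.eq_one_iff] at this
    exact this
  obtain ⟨q, hq, hq1⟩ : ∃ q ∈ W'.map (QuotientGroup.mk' A') ⊓ Subgroup.center _, q ≠ 1 := by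
    by_contra hh
    push Not at hh
    exact CfsgLib.Solvable.FrattiniFitting.inf_center_ne_bot _ hN
      ((Subgroup.eq_bot_iff_forall _).mpr hh)
  obtain ⟨k, hk⟩ := (S.isPGroup'.to_quotient A').exists_orderOf_eq_pow q
  obtain ⟨j, rfl⟩ : ∃ j, k = j + 1 := ⟨k - 1, by
    have : k ≠ 0 := fun e => hq1 (orderOf_eq_one_iff.mp (by rw [hk, e, pow_zero]))
    omega⟩
  set q' := q ^ 2 ^ j with hq'
  have hq'1 : q' ≠ 1 := pow_ne_one_of_lt_orderOf (by positivity)
    (by rw [hk]; exact Nat.pow_lt_pow_succ one_lt_two)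
  have hq'2 : q' * q' = 1 := by rw [hq', ← pow_add, ← two_mul, ← pow_succ', ← hk, pow_orderOf_eq_one]
  have hq'm := Subgroup.pow_mem _ hq (2 ^ j)
  rw [← hq'] at hq'm
  obtain ⟨⟨w0, hw0W, hw0⟩, hqc⟩ := hq'm
  set w := (w0 : G) with hw
  have hwA : w ∉ A := fun hh => hq'1 (by
    rw [← hw0, QuotientGroup.mk'_apply]
    exact (QuotientGroup.eq_one_iff w0).mpr hh)
  have hw2 : w * w ∈ A := by
    have : (QuotientGroup.mk' A') (w0 * w0) = 1 := by rw [map_mul, hw0, hq'2]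
    exact Subgroup.mem_subgroupOf.mp ((QuotientGroup.eq_one_iff (w0 * w0)).mp this)
  have hwc : ∀ s ∈ S, ∃ c ∈ A, s * w * s⁻¹ = w * c := fun s hs => by
    have h1 := Subgroup.mem_center_iff.mp hqc (QuotientGroup.mk' A' ⟨s, hs⟩)
    rw [← hw0, ← map_mul, ← map_mul] at h1
    have h2 : (⟨s, hs⟩ * w0)⁻¹ * (w0 * ⟨s, hs⟩) ∈ A' := QuotientGroup.eq.mp h1
    have h3 := hAinv s hs _ (inv_mem (Subgroup.mem_subgroupOf.mp h2))
    refine ⟨_, h3, ?_⟩
    simp [hw, mul_assoc]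
  obtain ⟨a, ha⟩ := hAc.exists_generator
  have hAp : IsPGroup 2 A := S.isPGroup'.to_le (hAW.trans inf_le_left)
  obtain ⟨n, hn⟩ := hAp.exists_card_eq
  have hAcomm : ∀ x ∈ A, ∀ y ∈ A, x * y = y * x := fun x hx y hy => by
    haveI := hAc
    letI := IsCyclic.commGroup (α := A)
    exact congrArg Subtype.val (mul_comm (⟨x, hx⟩ : A) ⟨y, hy⟩)
  have hgen : ∀ x ∈ A, ∃ i : ℤ, (a : G) ^ i = x := fun x hx => by
    obtain ⟨i, hi⟩ := Subgroup.mem_zpowers_iff.mp (ha ⟨x, hx⟩)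
    exact ⟨i, congrArg Subtype.val hi⟩
  have hroot : ∀ r : ℤ, Odd r → ∀ b ∈ A, ∃ d ∈ A, d ^ r = b := fun r hr b hb => by
    have hco : IsCoprime r ((2 : ℤ) ^ n) := IsCoprime.pow_right (by
      obtain ⟨l, rfl⟩ := hr
      exact ⟨1, -l, by ring⟩)
    obtain ⟨x, y, hxy⟩ := hco
    refine ⟨b ^ x, zpow_mem hb x, ?_⟩
    have hb' : b ^ (2 ^ n) = 1 := hn ▸ CfsgLib.RankOne.pow_card_mem hb
    rw [← zpow_mul]
    conv_rhs => rw [← zpow_one b, ← hxy, zpow_add, mul_comm y, zpow_mul _ ((2 : ℤ) ^ n) y]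
    rw [show ((2 : ℤ) ^ n) = ((2 ^ n : ℕ) : ℤ) by simp, zpow_natCast, hb', one_zpow, mul_one]
  have hinj : ∀ r : ℤ, Odd r → ∀ b ∈ A, b ^ r = 1 → b = 1 := fun r hr b hb hbr => by
    obtain ⟨d, hd, hdb⟩ := hroot r hr b hb
    have hco : IsCoprime r ((2 : ℤ) ^ n) := IsCoprime.pow_right (by
      obtain ⟨l, rfl⟩ := hr
      exact ⟨1, -l, by ring⟩)
    obtain ⟨x, y, hxy⟩ := hco
    have hb' : b ^ (2 ^ n) = 1 := hn ▸ CfsgLib.RankOne.pow_card_mem hb
    rw [← zpow_one b, ← hxy, zpow_add, mul_comm x, zpow_mul, hbr, one_zpow, one_mul, mul_comm,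
      zpow_mul, show ((2 : ℤ) ^ n) = ((2 ^ n : ℕ) : ℤ) by simp, zpow_natCast, hb', one_zpow]
  -- conjugation by `w` on `A`
  obtain ⟨m, hm⟩ := hgen (w⁻¹ * (a : G) * w) (by
    simpa [hw] using hAinv _ (inv_mem w0.2) _ a.2)
  have hconj : ∀ x ∈ A, w⁻¹ * x * w = x ^ m := fun x hx => by
    obtain ⟨i, rfl⟩ := hgen x hx
    have : w⁻¹ * (a : G) ^ i * w = (w⁻¹ * (a : G) * w) ^ i := by
      rw [show w⁻¹ * (a : G) * w = w⁻¹ * (a : G) * (w⁻¹)⁻¹ by group, conj_zpow]; group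
    rw [this, ← hm, ← zpow_mul, ← zpow_mul, mul_comm]
  have hwC : w ∈ cV G := (Subgroup.mem_inf.mp (Subgroup.mem_subgroupOf.mp hw0W)).2
  obtain ⟨l, hl⟩ : ∃ l : ℤ, m = 4 * l + 1 := by
    have h1 := hconj v (hVA h.v_mem)
    have h2 : w⁻¹ * v * w = v := by
      rw [mul_assoc, Subgroup.mem_centralizer_iff.mp hwC v h.v_mem, inv_mul_cancel_left]
    rw [h2] at h1
    have h3 : v ^ (m - 1) = 1 := by rw [zpow_sub, ← h1, zpow_one, mul_inv_cancel]
    have hord : orderOf v = 4 := by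
      refine orderOf_eq_prime_pow (p := 2) (n := 1) ?_ ?_
      · rw [pow_one, pow_two, h.v_sq]; exact h.z_ne
      · rw [show (2 : ℕ) ^ (1 + 1) = 2 * 2 by rfl, pow_mul, pow_two, pow_two, h.v_sq, h.z_sq]
    have h4 := orderOf_dvd_iff_zpow_eq_one.mpr h3
    rw [hord] at h4
    obtain ⟨l, hl⟩ := h4
    exact ⟨l, by push_cast at hl; omega⟩
  obtain ⟨j', hj'⟩ := hgen (w * w) hw2
  have hne_gen : ¬ ∃ r : ℤ, Odd r ∧ (a : G) ^ r = w * w := by
    rintro ⟨r, hr, hra⟩
    have haw : (a : G) ∈ Subgroup.zpowers w := by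
      obtain ⟨d, hd, hdb⟩ := hroot r hr (a : G) a.2
      obtain ⟨i, rfl⟩ := hgen d hd
      rw [← hdb, ← zpow_mul, mul_comm, zpow_mul, hra]
      exact zpow_mem (mul_mem (Subgroup.mem_zpowers w) (Subgroup.mem_zpowers w)) i
    have hAle : A ≤ Subgroup.zpowers w := fun x hx => by
      obtain ⟨i, rfl⟩ := hgen x hx
      exact zpow_mem haw i
    have hPz : P (Subgroup.zpowers w) := by
      refine ⟨hVA.trans hAle, Subgroup.zpowers_le.mpr (Subgroup.mem_subgroupOf.mp hw0W),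
        inferInstance, fun s hs x hx => ?_⟩
      obtain ⟨i, rfl⟩ := Subgroup.mem_zpowers_iff.mp hx
      rw [← conj_zpow]
      obtain ⟨c, hc, e⟩ := hwc s hs
      rw [e]
      exact zpow_mem (mul_mem (Subgroup.mem_zpowers w) (hAle hc)) i
    exact hwA (Subgroup.eq_of_le_of_card_ge hAle (hmax _ hPz) ▸ Subgroup.mem_zpowers w)
  obtain ⟨j, rfl⟩ : Even j' := by
    rcases Int.even_or_odd j' with he | ho
    · exact he
    · exact absurd ⟨j', ho, hj'⟩ hne_gen
  have hodd : Odd (2 * l + 1) := ⟨l, rfl⟩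
  obtain ⟨d, hd, hdb⟩ := hroot (2 * l + 1) hodd ((a : G) ^ (-j)) (zpow_mem a.2 _)
  have hdd : ∀ x ∈ A, x ^ m * x = (x * x) ^ (2 * l + 1) := fun x _ => by
    rw [hl, ← zpow_add_one, ← zpow_two, ← zpow_mul]; congr 1; ring
  refine ⟨w * d, mul_mem w0.2 (hAW hd).1, mul_mem hwC (hAW hd).2, ?_, fun hh => hwA ?_, fun s hs => ?_⟩
  · calc w * d * (w * d) = w * w * (w⁻¹ * d * w * d) := by group
      _ = w * w * (d * d) ^ (2 * l + 1) := by rw [hconj d hd, hdd d hd]
      _ = 1 := by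
        rw [(Commute.refl d).mul_zpow, hdb, ← hj', ← zpow_add, ← zpow_add,
          show j + j + (-j + -j) = 0 by ring, zpow_zero]
  · have := mul_mem (hVA hh) (inv_mem hd)
    rwa [mul_inv_cancel_right] at this
  · obtain ⟨c, hc, e⟩ := hwc s hs
    set b := d⁻¹ * c * (s * d * s⁻¹) with hb
    have hbA : b ∈ A := mul_mem (mul_mem (inv_mem hd) hc) (hAinv s hs d hd)
    have e2 : s * (w * d) * s⁻¹ = w * d * b := by
      calc s * (w * d) * s⁻¹ = (s * w * s⁻¹) * (s * d * s⁻¹) := by group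
        _ = _ := by rw [e, hb]; group
    have hu2 : w * d * (w * d) = 1 := by
      calc w * d * (w * d) = w * w * (w⁻¹ * d * w * d) := by group
        _ = w * w * (d * d) ^ (2 * l + 1) := by rw [hconj d hd, hdd d hd]
        _ = 1 := by
          rw [(Commute.refl d).mul_zpow, hdb, ← hj', ← zpow_add, ← zpow_add,
            show j + j + (-j + -j) = 0 by ring, zpow_zero]
    have h1 : (b * b) ^ (2 * l + 1) = 1 := by
      rw [← hdd b hbA, ← hconj b hbA]
      have h3 : w * d * b * (w * d * b) = 1 := by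
        rw [← e2]
        calc s * (w * d) * s⁻¹ * (s * (w * d) * s⁻¹) = s * (w * d * (w * d)) * s⁻¹ := by group
          _ = 1 := by rw [hu2]; group
      have hwbA : w⁻¹ * b * w ∈ A := by rw [hconj b hbA]; exact zpow_mem hbA m
      have h4 : w⁻¹ * b * w = d⁻¹ * (w⁻¹ * b * w) * d := by
        rw [mul_assoc d⁻¹, hAcomm _ hwbA d hd, inv_mul_cancel_left]
      rw [h4]
      calc d⁻¹ * (w⁻¹ * b * w) * d * b = (w * d)⁻¹ * b * (w * d) * b := by group
        _ = w * d * b * (w * d * b) := by rw [inv_eq_of_mul_eq_one_right hu2]; simp only [mul_assoc]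
        _ = 1 := h3
    have hbb : b * b = 1 := hinj _ hodd _ (mul_mem hbA hbA) h1
    by_cases hb1 : b = 1
    · left; rw [e2, hb1, mul_one]
    · right
      rw [e2, eq_of_two_invol hAc hbA (hVA h.z_mem) hbb h.z_sq hb1 h.z_ne]

end Ctx

end CfsgLib.LocalEvenB.CyclicInter
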