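import Mathlib
import Cfsg.Agent.Lib.LocalEvenB.CyclicIntersections.Setup
import Cfsg.Agent.Lib.Involution.ZStar.Basic

/-!
# No element outside the centraliser squares into the 2-core
-/

set_option autoImplicit false
set_option linter.style.haveILetI false
set_option linter.unusedSectionVars false

open Cfsg

namespace CfsgLib.LocalEvenB.CyclicInter

universe u

variable {G : Type u} [Group G] [Finite G] {z v : G}

/-- A solvable group whose 2-core is cyclic and whose odd core centralises two 2-elements puts them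
in a common Sylow subgroup. -/
theorem exists_common_sylow {H : Type*} [Group H] [Finite H] [Group.IsSolvable H]
    (hB : IsCyclic (pCore 2 H)) {x y : H} (hxp : IsPGroup 2 (Subgroup.zpowers x))
    (hyp : IsPGroup 2 (Subgroup.zpowers y))
    (hx : x ∈ Subgroup.centralizer (oddCore H : Set H))
    (hy : y ∈ Subgroup.centralizer (oddCore H : Set H)) :
    ∃ P : Sylow 2 H, x ∈ P ∧ y ∈ P := by
  haveI : Fact (Nat.Prime 2) := ⟨Nat.prime_two⟩
  haveI : (oddCore H).Normal := CfsgLib.Involution.ZStar.oddCore_normal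
  haveI : (pCore 2 H).Normal := CfsgLib.Solvable.Cores.pCore_normal 2
  set F := oddCore H with hF
  set B := pCore 2 H with hBdef
  set L := Subgroup.centralizer (F : Set H) with hL
  have hfit : fittingSubgroup H ≤ F ⊔ B := by
    rw [CfsgLib.Solvable.Cores.fittingSubgroup_eq_iSup_pCore]
    refine iSup_le fun p => ?_
    haveI := Fact.mk p.2
    by_cases hp : (p : ℕ) = 2
    · rw [hp]; exact le_sup_right
    · exact le_sup_of_le_left (CfsgLib.Solvable.Cores.pCore_le_pPrimeCore Nat.prime_two hp)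
  -- every element of `L` has a 2-power in the odd core
  have hpow : ∀ g ∈ L, ∃ k : ℕ, g ^ 2 ^ k ∈ F := by
    intro g hg
    obtain ⟨n, hn⟩ := (CfsgLib.Solvable.Cores.isPGroup_pCore (G := H) 2).exists_card_eq
    obtain ⟨k, hk⟩ : ∃ k : ℕ, (MulAut.conjNormal (H := B) g) ^ 2 ^ k = 1 := by
      rcases n with _ | n
      · refine ⟨0, MulEquiv.ext fun b => ?_⟩
        haveI : Subsingleton B := (Nat.card_eq_one_iff_unique.mp (by rw [hn, pow_zero])).1
        exact Subsingleton.elim _ _
      · exact IsPGroup.of_card (n := n) (by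
          rw [IsCyclic.card_mulAut, hn, Nat.totient_prime_pow Nat.prime_two (by omega)]; simp) _
    have hy' : g ^ 2 ^ k ∈ fittingSubgroup H := by
      refine CfsgLib.Solvable.Cores.centralizer_fittingSubgroup_le (G := H) ?_
      refine Subgroup.centralizer_le (SetLike.coe_subset_coe.mpr hfit) ?_
      have h1 : F ⊔ B ≤ Subgroup.centralizer ({g ^ 2 ^ k} : Set H) := by
        refine sup_le (fun f hf => ?_) (fun b hb => ?_)
        · exact Subgroup.mem_centralizer_singleton_iff.mpr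
            (Subgroup.mem_centralizer_iff.mp (pow_mem hg _) f hf)
        · refine Subgroup.mem_centralizer_singleton_iff.mpr ?_
          have := congrArg (fun φ : MulAut B => (φ ⟨b, hb⟩ : H)) ((map_pow _ g (2 ^ k)).trans hk)
          simp only [MulAut.conjNormal_apply] at this
          exact (mul_inv_eq_iff_eq_mul.mp this).symm
      exact Subgroup.mem_centralizer_iff.mpr fun f hf =>
        Subgroup.mem_centralizer_singleton_iff.mp (h1 hf)
    obtain ⟨f, hf, b, hb, he⟩ := Subgroup.mem_sup_of_normal_left.mp (hfit hy')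
    obtain ⟨j, hj⟩ := (CfsgLib.Solvable.Cores.isPGroup_pCore (G := H) 2) ⟨b, hb⟩
    have hfb : Commute f b :=
      Subgroup.commute_of_normal_of_disjoint F B inferInstance inferInstance (disjoint_iff.mpr
        (Subgroup.inf_eq_bot_of_coprime (by
          rw [hn]
          exact (Nat.coprime_two_right.mpr CfsgLib.Involution.ZStar.odd_card_oddCore).pow_right n)))
        f b hf hb
    refine ⟨k + j, ?_⟩
    rw [pow_add, pow_mul, ← he, hfb.mul_pow, show b ^ 2 ^ j = 1 from congrArg Subtype.val hj, mul_one]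
    exact pow_mem hf _
  haveI hFn : (F.subgroupOf L).Normal := inferInstance
  haveI : Group.IsNilpotent (L ⧸ F.subgroupOf L) := by
    refine IsPGroup.isNilpotent (p := 2) fun q => ?_
    obtain ⟨g, rfl⟩ := QuotientGroup.mk'_surjective _ q
    obtain ⟨k, hk⟩ := hpow g g.2
    exact ⟨k, by rw [← map_pow]; exact (QuotientGroup.eq_one_iff _).mpr hk⟩
  haveI : Group.IsNilpotent L := by
    refine Subgroup.isNilpotent_of_ker_le_center (QuotientGroup.mk' (F.subgroupOf L)) ?_
    rw [QuotientGroup.ker_mk']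
    intro f hf
    exact Subgroup.mem_center_iff.mpr fun g => Subtype.ext
      (Subgroup.mem_centralizer_iff.mp g.2 (f : H) hf).symm
  have key : ∀ a (ha : a ∈ L), IsPGroup 2 (Subgroup.zpowers a) → ∀ P : Sylow 2 L, (⟨a, ha⟩ : L) ∈ P := by
    intro a ha hap P
    have hn : (P : Subgroup L).Normal := inferInstance
    letI := Sylow.unique_of_normal P hn
    have hp : IsPGroup 2 (Subgroup.zpowers (⟨a, ha⟩ : L)) := by
      obtain ⟨i, hi⟩ := hap ⟨a, Subgroup.mem_zpowers a⟩
      exact isPGroup_zpowers_of_pow (k := i) (Subtype.ext (congrArg Subtype.val hi : _))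
    obtain ⟨P', hP'⟩ := hp.exists_le_sylow
    exact Subsingleton.elim P' P ▸ hP' (Subgroup.mem_zpowers _)
  obtain ⟨P⟩ : Nonempty (Sylow 2 L) := inferInstance
  obtain ⟨Q, hQ⟩ := (P.isPGroup'.map L.subtype).exists_le_sylow
  exact ⟨Q, hQ ⟨⟨x, hx⟩, key x hx hxp P, rfl⟩, hQ ⟨⟨y, hy⟩, key y hy hyp P, rfl⟩⟩

theorem Ctx.case_one (h : Ctx G z v)
    (IH : ∀ H : Subgroup G, H ≠ ⊤ → ¬ Group.IsSolvable H → pCore 2 H ≤ Subgroup.center H)
    {x : G} (hxC : x ∉ cV G) (hx2 : x * x ∈ pCore 2 G) : False := by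
  classical
  haveI : Fact (Nat.Prime 2) := ⟨Nat.prime_two⟩
  haveI : (pCore 2 G).Normal := CfsgLib.Solvable.Cores.pCore_normal 2
  haveI := h.normal_cV
  have hxp : IsPGroup 2 (Subgroup.zpowers x) := by
    obtain ⟨k, hk⟩ := CfsgLib.Solvable.Cores.isPGroup_pCore (G := G) 2 ⟨_, hx2⟩
    refine isPGroup_zpowers_of_pow (k := k + 1) ?_
    rw [pow_succ', pow_mul, pow_two]; exact congrArg Subtype.val hk
  obtain ⟨S, hxS⟩ := hxp.exists_le_sylow
  replace hxS : x ∈ S := hxS (Subgroup.mem_zpowers x)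
  obtain ⟨T, hTS⟩ := exists_other_sylow h.ft h.ns S
  obtain ⟨u, huT, huC, hu2, huV, -⟩ := h.exists_u T
  have huS : u ∉ S := fun hh => hTS (h.unique_invol hu2 huV huT hh)
  obtain ⟨u', hu'S, hu'C, hu'2, hu'V, hu'S'⟩ := h.exists_u S
  -- the central involution of the dihedral group modulo the core
  set π := QuotientGroup.mk' (pCore 2 G) with hπ
  have hone : ∀ g, π g = 1 ↔ g ∈ pCore 2 G := fun g => QuotientGroup.eq_one_iff g
  have heven : Even (orderOf (π (x * u))) := by
    rw [← Nat.not_odd_iff_even]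
    intro ho
    have h1 : (x * u) ^ orderOf (π (x * u)) ∈ cV G := h.le_cV ((hone _).mp
      (by rw [map_pow, pow_orderOf_eq_one]))
    have := mul_mem (h.mem_cV_of_odd ho h1) (inv_mem huC)
    rw [mul_inv_cancel_right] at this
    exact hxC this
  obtain ⟨k, hk⟩ := heven
  have hkpos : 0 < k := by have := orderOf_pos (π (x * u)); omega
  set w := (x * u) ^ k with hw
  have hwV : w ∉ pCore 2 G := fun hh => by
    have h1 : π (x * u) ^ k = 1 := by rw [← map_pow]; exact (hone _).mpr hh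
    exact pow_ne_one_of_lt_orderOf hkpos.ne' (by omega) h1
  have hw2 : w * w ∈ pCore 2 G := (hone _).mp (by
    rw [hw, ← pow_add, map_pow, ← hk, pow_orderOf_eq_one])
  have hwp : IsPGroup 2 (Subgroup.zpowers w) := by
    obtain ⟨i, hi⟩ := CfsgLib.Solvable.Cores.isPGroup_pCore (G := G) 2 ⟨_, hw2⟩
    refine isPGroup_zpowers_of_pow (k := i + 1) ?_
    rw [pow_succ', pow_mul, pow_two]; exact congrArg Subtype.val hi
  have hup : IsPGroup 2 (Subgroup.zpowers u) := isPGroup_zpowers_of_mem T.isPGroup' huT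
  have hxx : π x * π x = 1 := by rw [← map_mul]; exact (hone _).mpr hx2
  have huu : π u * π u = 1 := by rw [← map_mul, hu2, map_one]
  have hinv : (π (x * u))⁻¹ = π u * π x := by
    rw [map_mul, mul_inv_rev, inv_eq_of_mul_eq_one_right hxx, inv_eq_of_mul_eq_one_right huu]
  have hwinv : (π (x * u))⁻¹ ^ k = π (x * u) ^ k := by
    rw [inv_pow, inv_eq_iff_mul_eq_one, ← pow_add, ← hk, pow_orderOf_eq_one]
  have hconj : ∀ g, (g = x ∨ g = u) → ∃ c ∈ pCore 2 G, g * w * g⁻¹ = w * c := by
    intro g hg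
    refine ⟨w⁻¹ * (g * w * g⁻¹), (hone _).mp ?_, by group⟩
    rw [map_mul, map_inv, inv_mul_eq_one, hw, map_mul, map_mul, map_inv, map_pow, ← conj_pow]
    rw [← hwinv]
    congr 1
    rw [hinv]
    rcases hg with e | e
    · rw [e, map_mul, inv_eq_of_mul_eq_one_right hxx, ← mul_assoc (π x), hxx, one_mul]
    · rw [e, map_mul, inv_eq_of_mul_eq_one_right huu, mul_assoc (π u), mul_assoc (π x) (π u), huu, mul_one]
  obtain ⟨c1, hc1, hcx⟩ := hconj x (Or.inl rfl)
  obtain ⟨c2, hc2, hcu⟩ := hconj u (Or.inr rfl)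
  by_cases hwC : w ∈ cV G
  swap
  · obtain ⟨B, hB⟩ := hwp.exists_le_sylow
    have hwB := hB (Subgroup.mem_zpowers w)
    have hxB := h.mem_of_conj_out hwC hwB hxp hc1 hcx
    have huB := h.mem_of_conj_out hwC hwB hup hc2 hcu
    exact huS (h.unique_out hxC hxB hxS ▸ huB)
  rcases h.exists_invol_of_sq hwC hwV hw2 with hR | ⟨c, hc, he2, heV⟩
  swap
  · have hep : IsPGroup 2 (Subgroup.zpowers (w * c)) :=
      isPGroup_zpowers_of_pow (k := 1) (by rw [pow_one, pow_two, he2])
    obtain ⟨B, hB⟩ := hep.exists_le_sylow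
    have heB := hB (Subgroup.mem_zpowers _)
    have heC : w * c ∈ cV G := mul_mem hwC (h.le_cV hc)
    have key : ∀ g d, d ∈ pCore 2 G → g * w * g⁻¹ = w * d →
        g * (w * c) * g⁻¹ = w * c ∨ g * (w * c) * g⁻¹ = w * c * z := by
      intro g d hd hgd
      set e := c⁻¹ * d * (g * c * g⁻¹) with he
      have heV' : e ∈ pCore 2 G := mul_mem (mul_mem (inv_mem hc) hd)
        ((CfsgLib.Solvable.Cores.pCore_normal (G := G) 2).conj_mem c hc g)
      have e1 : g * (w * c) * g⁻¹ = w * c * e := by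
        calc g * (w * c) * g⁻¹ = (g * w * g⁻¹) * (g * c * g⁻¹) := by group
          _ = _ := by rw [hgd, he]; group
      have e2 : e * e = 1 := by
        have h1 : w * c * e * (w * c * e) = 1 := by
          rw [← e1]
          calc g * (w * c) * g⁻¹ * (g * (w * c) * g⁻¹) = g * (w * c * (w * c)) * g⁻¹ := by group
            _ = 1 := by rw [he2]; group
        have hcomm : e * (w * c) = w * c * e := Subgroup.mem_centralizer_iff.mp heC e heV'
        calc e * e = w * c * (w * c) * (e * e) := by rw [he2, one_mul]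
          _ = w * c * (e * (w * c)) * e := by rw [hcomm]; simp only [mul_assoc]
          _ = 1 := by rw [← mul_assoc (w * c), mul_assoc _ (w * c) e]; exact h1
      rcases h.eq_one_or_z heV' e2 with r | r
      · exact Or.inl (by rw [e1, r, mul_one])
      · exact Or.inr (by rw [e1, r])
    have hxB := h.mem_of_conj_invol he2 heV heB hxp (key x c1 hc1 hcx)
    have huB := h.mem_of_conj_invol he2 heV heB hup (key u c2 hc2 hcu)
    exact huS (h.unique_out hxC hxB hxS ▸ huB)
  -- a larger cyclic group; pass to its normaliser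
  set R := Subgroup.zpowers w with hRdef
  set G1 := Subgroup.normalizer (R : Set G) with hG1
  have hnorm : ∀ g (c : G), c ∈ pCore 2 G → g * w * g⁻¹ = w * c → g ∈ G1 := by
    intro g c hc hg
    rw [hG1]
    have hmap : R.map (MulAut.conj g).toMonoidHom = R := by
      refine Subgroup.eq_of_le_of_card_ge ?_ (le_of_eq ?_)
      · rw [hRdef, MonoidHom.map_zpowers, Subgroup.zpowers_le]
        change g * w * g⁻¹ ∈ R
        rw [hg]; exact mul_mem (Subgroup.mem_zpowers w) (hR hc)
      · exact (Subgroup.card_map_of_injective (MulAut.conj g).injective).symm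
    exact Subgroup.mem_normalizer_iff.mpr fun y => ⟨fun hy => hmap.le ⟨y, hy, rfl⟩, fun hy => by
      obtain ⟨y', hy', e⟩ := hmap.ge hy
      exact mul_left_cancel (mul_right_cancel e) ▸ hy'⟩
  have hxG1 := hnorm x c1 hc1 hcx
  have huG1 := hnorm u c2 hc2 hcu
  have hRle : R ≤ G1 := Subgroup.le_normalizer
  have hG1top : G1 ≠ ⊤ := fun e => hwV (by
    haveI : R.Normal := Subgroup.normalizer_eq_top_iff.mp e
    exact CfsgLib.Solvable.Cores.le_pCore hwp (Subgroup.mem_zpowers w))
  haveI hR1n : (R.subgroupOf G1).Normal := Subgroup.normal_in_normalizer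
  by_cases hs : Group.IsSolvable G1
  swap
  · have hle : R.subgroupOf G1 ≤ pCore 2 G1 :=
      CfsgLib.Solvable.Cores.le_pCore (hwp.comap_of_injective G1.subtype G1.subtype_injective)
    refine hxC (Subgroup.mem_centralizer_iff.mpr fun y hy => ?_)
    have hy1 : (⟨y, hRle (hR hy)⟩ : G1) ∈ Subgroup.center G1 :=
      IH G1 hG1top hs (hle (Subgroup.mem_subgroupOf.mpr (hR hy)))
    exact (congrArg Subtype.val (Subgroup.mem_center_iff.mp hy1 ⟨x, hxG1⟩)).symm
  haveI := hs
  haveI : (oddCore G1).Normal := CfsgLib.Involution.ZStar.oddCore_normal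
  -- `w` and the second involution of `S`
  obtain ⟨S', hS'⟩ := (hxp.to_sup_of_normal_right' hwp (Subgroup.zpowers_le.mpr hxG1)).exists_le_sylow
  obtain rfl : S' = S := h.unique_out hxC (hS' (Subgroup.mem_sup_left (Subgroup.mem_zpowers x))) hxS
  have hwS : w ∈ S' := hS' (Subgroup.mem_sup_right (Subgroup.mem_zpowers w))
  have hu'G1 : u' ∈ G1 := by
    have e1 : u'⁻¹ = u' := inv_eq_of_mul_eq_one_right hu'2
    rcases hu'S' w hwS with e | e
    · refine hnorm u' 1 (one_mem _) ?_
      have e2 : w * u' = u' * w := mul_inv_eq_iff_eq_mul.mp e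
      rw [e1, ← e2, mul_one, mul_assoc, hu'2, mul_one]
    · refine hnorm u' z h.z_mem ?_
      have e2 : w * u' = u' * z * w := mul_inv_eq_iff_eq_mul.mp e
      rw [e1, mul_assoc, e2, mul_assoc u' z w, ← mul_assoc u', hu'2, one_mul, h.z_comm w]
  have hdisj : Disjoint (R.subgroupOf G1) (oddCore G1) := disjoint_iff.mpr
    (Subgroup.inf_eq_bot_of_coprime (by
      obtain ⟨i, hi⟩ := (hwp.comap_of_injective G1.subtype G1.subtype_injective).exists_card_eq
      rw [show Nat.card (R.subgroupOf G1) = 2 ^ i from hi]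
      exact (Nat.coprime_two_left.mpr CfsgLib.Involution.ZStar.odd_card_oddCore).pow_left i))
  have hFcomm : ∀ f ∈ oddCore G1, ∀ c : G, c ∈ pCore 2 G → c * (f : G) = (f : G) * c := by
    intro f hf c hc
    exact congrArg Subtype.val (Subgroup.commute_of_normal_of_disjoint _ _ hR1n inferInstance hdisj
      ⟨c, hRle (hR hc)⟩ f (Subgroup.mem_subgroupOf.mpr (hR hc)) hf).eq
  have hu'p : IsPGroup 2 (Subgroup.zpowers u') := isPGroup_zpowers_of_mem S'.isPGroup' hu'S
  have hxu'S : x * u' ∈ S' := mul_mem hxS hu'S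
  have hxu'C : x * u' ∉ cV G := fun hh => hxC (by
    have := mul_mem hh (inv_mem hu'C); rwa [mul_inv_cancel_right] at this)
  -- the odd core normalises the Sylow subgroup
  set A := MulAut.conjNormal (H := oddCore G1) (⟨x, hxG1⟩ : G1)
  set B := MulAut.conjNormal (H := oddCore G1) (⟨u', hu'G1⟩ : G1)
  have hA : ∀ f, ((A f : G1) : G) = x * ((f : G1) : G) * x⁻¹ := fun f => by
    simp [A, MulAut.conjNormal_apply]
  have hB : ∀ f, ((B f : G1) : G) = u' * ((f : G1) : G) * u'⁻¹ := fun f => by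
    simp [B, MulAut.conjNormal_apply]
  have hgen := gen_four (F := oddCore G1) CfsgLib.Involution.ZStar.odd_card_oddCore
    A.toMonoidHom B.toMonoidHom
    (fun f => Subtype.ext (Subtype.ext (by
      change ((A (A f) : G1) : G) = _
      rw [hA, hA]
      calc x * (x * ((f : G1) : G) * x⁻¹) * x⁻¹ = x * x * ((f : G1) : G) * (x * x)⁻¹ := by group
        _ = _ := by rw [hFcomm f f.2 _ hx2]; group)))
    (fun f => Subtype.ext (Subtype.ext (by
      change ((B (B f) : G1) : G) = _
      rw [hB, hB]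
      calc u' * (u' * ((f : G1) : G) * u'⁻¹) * u'⁻¹ = u' * u' * ((f : G1) : G) * (u' * u')⁻¹ := by group
        _ = _ := by rw [hu'2]; group)))
    (fun f => Subtype.ext (Subtype.ext (by
      change ((A (B f) : G1) : G) = ((B (A f) : G1) : G)
      rw [hA, hB, hB, hA]
      obtain ⟨d, hd, e⟩ : ∃ d ∈ pCore 2 G, x * u' = u' * x * d := by
        rcases hu'S' x hxS with e | e
        · exact ⟨1, one_mem _, by rw [mul_one]; exact mul_inv_eq_iff_eq_mul.mp e⟩
        · exact ⟨z, h.z_mem, by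
            rw [mul_inv_eq_iff_eq_mul.mp e, mul_assoc u' z x, ← h.z_comm x, mul_assoc]⟩
      calc x * (u' * ((f : G1) : G) * u'⁻¹) * x⁻¹ = (x * u') * ((f : G1) : G) * (x * u')⁻¹ := by group
        _ = u' * x * (d * ((f : G1) : G) * d⁻¹) * (u' * x)⁻¹ := by rw [e]; group
        _ = _ := by rw [hFcomm f f.2 d hd]; group)))
    ((Subgroup.normalizer ((S' : Subgroup G) : Set G)).comap
      (G1.subtype.comp (oddCore G1).subtype))
    (fun f hf => by
      refine Sylow.smul_eq_iff_mem_normalizer.mp (h.unique_out hxC ?_ hxS)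
      refine ⟨x, hxS, ?_⟩
      have e := (hA f).symm.trans (congrArg (fun y : oddCore G1 => ((y : G1) : G)) hf)
      change ((f : G1) : G) * x * ((f : G1) : G)⁻¹ = x
      rw [mul_inv_eq_iff_eq_mul]; exact (mul_inv_eq_iff_eq_mul.mp e).symm)
    (fun f hf => by
      refine Sylow.smul_eq_iff_mem_normalizer.mp (h.unique_invol hu'2 hu'V ?_ hu'S)
      refine ⟨u', hu'S, ?_⟩
      have e := (hB f).symm.trans (congrArg (fun y : oddCore G1 => ((y : G1) : G)) hf)
      change ((f : G1) : G) * u' * ((f : G1) : G)⁻¹ = u'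
      rw [mul_inv_eq_iff_eq_mul]; exact (mul_inv_eq_iff_eq_mul.mp e).symm)
    (fun f hf => by
      refine Sylow.smul_eq_iff_mem_normalizer.mp (h.unique_out hxu'C ?_ hxu'S)
      refine ⟨x * u', hxu'S, ?_⟩
      have e := (hA (B f)).symm.trans (congrArg (fun y : oddCore G1 => ((y : G1) : G)) hf)
      rw [hB] at e
      change ((f : G1) : G) * (x * u') * ((f : G1) : G)⁻¹ = x * u'
      rw [mul_inv_eq_iff_eq_mul]
      calc ((f : G1) : G) * (x * u') = (x * (u' * ((f : G1) : G) * u'⁻¹) * x⁻¹) * (x * u') := by rw [e]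
        _ = _ := by group)
  have hFN : ∀ f ∈ oddCore G1, (f : G) ∈ Subgroup.normalizer ((S' : Subgroup G) : Set G) := fun f hf => by
    have := hgen.ge (Subgroup.mem_top (⟨f, hf⟩ : oddCore G1))
    exact this
  -- the odd core centralises the trace of `S`
  have hScent : ∀ s : G1, (s : G) ∈ S' → s ∈ Subgroup.centralizer (oddCore G1 : Set G1) := by
    intro s hs'
    refine Subgroup.mem_centralizer_iff.mpr fun f hf => ?_
    have h1 : f * s * f⁻¹ * s⁻¹ ∈ oddCore G1 := by
      have := mul_mem hf (‹(oddCore G1).Normal›.conj_mem _ (inv_mem hf) s)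
      simpa [mul_assoc] using this
    have h2 : ((f * s * f⁻¹ * s⁻¹ : G1) : G) ∈ S' :=
      mul_mem ((Subgroup.mem_normalizer_iff.mp (hFN f hf) (s : G)).mp hs') (inv_mem hs')
    obtain ⟨i, hi⟩ := S'.isPGroup' ⟨_, h2⟩
    have h3 : (f * s * f⁻¹ * s⁻¹) ^ 2 ^ i = 1 := Subtype.ext (congrArg Subtype.val hi : _)
    have h4 := CfsgLib.Involution.ZStar.odd_orderOf_of_mem h1
    obtain ⟨j, -, hj⟩ := (Nat.dvd_prime_pow Nat.prime_two).mp (orderOf_dvd_of_pow_eq_one h3)
    have h5 : f * s * f⁻¹ * s⁻¹ = 1 := by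
      rcases j with _ | j
      · exact orderOf_eq_one_iff.mp (by rw [hj, pow_zero])
      · rw [hj, Nat.odd_iff, pow_succ'] at h4; omega
    exact mul_inv_eq_iff_eq_mul.mp (mul_inv_eq_one.mp h5)
  -- Sylow subgroups of the normaliser
  have hsyl : ∀ (g : G) (hg : g ∈ G1), IsPGroup 2 (Subgroup.zpowers g) →
      IsPGroup 2 (Subgroup.zpowers (⟨g, hg⟩ : G1)) := fun g hg hgp => by
    obtain ⟨i, hi⟩ := hgp ⟨g, Subgroup.mem_zpowers g⟩
    exact isPGroup_zpowers_of_pow (k := i) (Subtype.ext (congrArg Subtype.val hi : _))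
  obtain ⟨U1, hU1⟩ := (hsyl x hxG1 hxp).exists_le_sylow
  obtain ⟨U2, hU2⟩ := (hsyl u huG1 hup).exists_le_sylow
  obtain ⟨B1, hB1⟩ := (U1.isPGroup'.map G1.subtype).exists_le_sylow
  obtain ⟨B2, hB2⟩ := (U2.isPGroup'.map G1.subtype).exists_le_sylow
  obtain rfl : B1 = S' := h.unique_out hxC (hB1 ⟨_, hU1 (Subgroup.mem_zpowers _), rfl⟩) hxS
  obtain rfl : B2 = T := h.unique_invol hu2 huV (hB2 ⟨_, hU2 (Subgroup.mem_zpowers _), rfl⟩) huT
  have hU1c : ∀ s ∈ U1, s ∈ Subgroup.centralizer (oddCore G1 : Set G1) :=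
    fun s hs => hScent s (hB1 ⟨s, hs, rfl⟩)
  have hucent : (⟨u, huG1⟩ : G1) ∈ Subgroup.centralizer (oddCore G1 : Set G1) := by
    obtain ⟨g, hg⟩ := MulAction.exists_smul_eq G1 U1 U2
    have h1 : (⟨u, huG1⟩ : G1) ∈ g • U1 := hg ▸ hU2 (Subgroup.mem_zpowers _)
    obtain ⟨s, hs, e⟩ := h1
    rw [← e]
    exact (inferInstance : (Subgroup.centralizer (oddCore G1 : Set G1)).Normal).conj_mem s (hU1c s hs) g
  haveI : IsCyclic ↥((pCore 2 G1).map G1.subtype) := by
    haveI := h.ci B1 B2 hTS.symm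
    refine Subgroup.isCyclic_of_le (H' := (B1 : Subgroup G) ⊓ (B2 : Subgroup G)) (le_inf ?_ ?_)
    · exact (Subgroup.map_mono (CfsgLib.Solvable.Cores.pCore_le_sylow U1)).trans hB1
    · exact (Subgroup.map_mono (CfsgLib.Solvable.Cores.pCore_le_sylow U2)).trans hB2
  haveI : IsCyclic (pCore 2 G1) := isCyclic_of_injective
    (Subgroup.equivMapOfInjective _ G1.subtype G1.subtype_injective).toMonoidHom (MulEquiv.injective _)
  obtain ⟨P, hP1, hP2⟩ := exists_common_sylow (H := G1) inferInstance (hsyl x hxG1 hxp)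
    (hsyl u huG1 hup) (hU1c _ (hU1 (Subgroup.mem_zpowers _))) hucent
  obtain ⟨B, hB⟩ := (P.isPGroup'.map G1.subtype).exists_le_sylow
  exact huS (h.unique_out hxC (hB ⟨_, hP1, rfl⟩) hxS ▸ hB ⟨_, hP2, rfl⟩)

end CfsgLib.LocalEvenB.CyclicInter
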