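import Mathlib
import Cfsg.Agent.Lib.LocalEvenB.CyclicIntersections.Setup
import Cfsg.Agent.Lib.Coprime.Action
import Cfsg.Agent.Lib.Involution.ZStar.Main
import Cfsg.Agent.Lib.Involution.ZStar.Corollaries

/-!
# Some element outside the centraliser squares into the 2-core
-/

set_option autoImplicit false
set_option linter.style.haveILetI false
set_option linter.unusedSectionVars false

open Cfsg
open scoped commutatorElement

namespace CfsgLib.LocalEvenB.CyclicInter

universe u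

variable {G : Type u} [Group G] [Finite G] {z v : G}

namespace Ctx

/-- An involution moved within itself or by the central involution. -/
theorem conj_shift (h : Ctx G z v) {g a : G} (ha : g * a * g⁻¹ = a ∨ g * a * g⁻¹ = a * z) :
    g * (a * z) * g⁻¹ = a * z ∨ g * (a * z) * g⁻¹ = a * z * z := by
  have e : g * (a * z) * g⁻¹ = g * a * g⁻¹ * z := by
    rw [← mul_assoc, mul_assoc _ z g⁻¹, ← h.z_comm g⁻¹]; group
  rcases ha with r | r <;> rw [e, r] <;> simp

/-- Involutions in different Sylow subgroups are conjugate up to the central involution. -/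
theorem fusion (h : Ctx G z v) {u1 u2 : G} {S T : Sylow 2 G} (hne : S ≠ T) (h1S : u1 ∈ S)
    (h2T : u2 ∈ T) (h1 : u1 * u1 = 1) (h2 : u2 * u2 = 1) (h1V : u1 ∉ pCore 2 G)
    (h2V : u2 ∉ pCore 2 G) (h1C : u1 ∈ cV G) (h2C : u2 ∈ cV G) :
    ∃ g : G, g * u1 * g⁻¹ = u2 ∨ g * u1 * g⁻¹ = u2 * z := by
  haveI : Fact (Nat.Prime 2) := ⟨Nat.prime_two⟩
  set d := u1 * u2 with hd
  rcases Nat.even_or_odd (orderOf d) with ⟨k, hk⟩ | hodd
  swap
  · obtain ⟨g, -, e⟩ := CfsgLib.RankOne.isConj_of_odd_mul h1 h2 hodd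
    exact ⟨g, Or.inl e⟩
  have hdC : d ∈ cV G := mul_mem h1C h2C
  have hkpos : 0 < k := by have := orderOf_pos d; omega
  have e1 : u1⁻¹ = u1 := inv_eq_of_mul_eq_one_right h1
  have e2 : u2⁻¹ = u2 := inv_eq_of_mul_eq_one_right h2
  have hd1 : u1 * d * u1⁻¹ = d⁻¹ := by
    rw [hd, mul_inv_rev, e1, e2, ← mul_assoc u1 u1, h1, one_mul]
  have hd2 : u2 * d * u2⁻¹ = d⁻¹ := by
    rw [hd, mul_inv_rev, e1, e2, mul_assoc u2, mul_assoc u1 u2 u2, h2, mul_one]
  -- nothing outside the core is normalised by both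
  have hno : ∀ y : G, y * y = 1 → y ∉ pCore 2 G → (u1 * y * u1⁻¹ = y ∨ u1 * y * u1⁻¹ = y * z) →
      (u2 * y * u2⁻¹ = y ∨ u2 * y * u2⁻¹ = y * z) → False := fun y hy hyV g1 g2 => by
    obtain ⟨B, hB⟩ := (isPGroup_zpowers_of_pow (g := y) (k := 1)
      (by rw [pow_one, pow_two, hy])).exists_le_sylow
    have hyB := hB (Subgroup.mem_zpowers y)
    have b1 := h.mem_of_conj_invol hy hyV hyB (isPGroup_zpowers_of_mem S.isPGroup' h1S) g1
    have b2 := h.mem_of_conj_invol hy hyV hyB (isPGroup_zpowers_of_mem T.isPGroup' h2T) g2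
    exact hne ((h.unique_invol h1 h1V b1 h1S).symm.trans (h.unique_invol h2 h2V b2 h2T))
  set w := d ^ k with hw
  have hw2 : w * w = 1 := by rw [hw, ← pow_add, ← hk, pow_orderOf_eq_one]
  have hw1 : w ≠ 1 := pow_ne_one_of_lt_orderOf hkpos.ne' (by omega)
  have hwinv : w⁻¹ = w := inv_eq_of_mul_eq_one_right hw2
  have hwV : w ∈ pCore 2 G := by
    by_contra hh
    exact hno w hw2 hh (Or.inl (by rw [hw, ← conj_pow, hd1, inv_pow]; exact hwinv))
      (Or.inl (by rw [hw, ← conj_pow, hd2, inv_pow]; exact hwinv))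
  have hwz : w = z := (h.eq_one_or_z hwV hw2).resolve_left hw1
  rcases Nat.even_or_odd k with ⟨j, hj⟩ | hkodd
  · exfalso
    set y := d ^ j with hy
    have hyy : y * y = z := by rw [hy, ← pow_add, ← hj, ← hw, hwz]
    have hy1 : u1 * y * u1⁻¹ = y⁻¹ := by rw [hy, ← conj_pow, hd1, inv_pow]
    have hy2 : u2 * y * u2⁻¹ = y⁻¹ := by rw [hy, ← conj_pow, hd2, inv_pow]
    have hyC : y ∈ cV G := pow_mem hdC _
    have hyV : y ∉ pCore 2 G := fun hh => h.z_ne (by
      have h3 : u1 * y * u1⁻¹ = y := by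
        rw [← Subgroup.mem_centralizer_iff.mp h1C y hh]; group
      rw [← hyy]
      nth_rewrite 1 [← h3]
      rw [hy1, inv_mul_cancel])
    have hyv : v * y = y * v := Subgroup.mem_centralizer_iff.mp hyC v h.v_mem
    have hsq : y * v⁻¹ * (y * v⁻¹) = 1 := by
      have hc : Commute y v⁻¹ := (show Commute y v from hyv.symm).inv_right
      rw [mul_assoc, ← mul_assoc v⁻¹, ← hc.eq, mul_assoc y, ← mul_assoc, ← mul_assoc, hyy,
        mul_assoc, ← mul_inv_rev, h.v_sq, mul_inv_cancel]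
    have hnV : y * v⁻¹ ∉ pCore 2 G := fun hh => hyV (by
      have := mul_mem hh h.v_mem; rwa [inv_mul_cancel_right] at this)
    have hshift : ∀ g, g ∈ cV G → g * y * g⁻¹ = y⁻¹ → g * (y * v⁻¹) * g⁻¹ = y * v⁻¹ * z := by
      intro g hg hgy
      have hgv : g * v⁻¹ * g⁻¹ = v⁻¹ := by
        rw [← Subgroup.mem_centralizer_iff.mp hg _ (inv_mem h.v_mem)]; group
      have hyinv : y⁻¹ = y * z := by
        rw [inv_eq_iff_mul_eq_one, ← mul_assoc, hyy, h.z_sq]
      rw [show g * (y * v⁻¹) * g⁻¹ = (g * y * g⁻¹) * (g * v⁻¹ * g⁻¹) by group, hgy, hgv, hyinv,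
        mul_assoc y z, ← h.z_comm v⁻¹, mul_assoc]
    exact hno _ hsq hnV (Or.inr (hshift u1 h1C hy1)) (Or.inr (hshift u2 h2C hy2))
  · have hodd2 : Odd (orderOf (u1 * (u2 * z))) := by
      refine Odd.of_dvd_nat hkodd (orderOf_dvd_of_pow_eq_one ?_)
      have hc : Commute d z := h.z_comm d
      rw [← mul_assoc, ← hd, hc.mul_pow, ← hw, hwz]
      obtain ⟨i, rfl⟩ := hkodd
      rw [pow_succ, pow_mul, pow_two, h.z_sq, one_pow, one_mul, h.z_sq]
    have h2z : u2 * z * (u2 * z) = 1 := by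
      rw [mul_assoc, ← mul_assoc z, ← h.z_comm u2, mul_assoc u2 z z, h.z_sq, mul_one, h2]
    obtain ⟨g, -, e⟩ := CfsgLib.RankOne.isConj_of_odd_mul h1 h2z hodd2
    exact ⟨g, Or.inr e⟩

theorem case_two (h : Ctx G z v) (hno : ∀ x : G, x ∉ cV G → x * x ∉ pCore 2 G) : False := by
  classical
  haveI : Fact (Nat.Prime 2) := ⟨Nat.prime_two⟩
  haveI := h.normal_cV
  haveI : (pCore 2 G).Normal := CfsgLib.Solvable.Cores.pCore_normal 2
  obtain ⟨S⟩ : Nonempty (Sylow 2 G) := inferInstance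
  set H := Subgroup.normalizer ((S : Subgroup G) : Set G) with hHdef
  have hSH : (S : Subgroup G) ≤ H := Subgroup.le_normalizer
  haveI hSn : ((S : Subgroup G).subgroupOf H).Normal := Subgroup.normal_in_normalizer
  have hSHp : IsPGroup 2 ((S : Subgroup G).subgroupOf H) :=
    S.isPGroup'.comap_of_injective H.subtype H.subtype_injective
  have hidx : Odd ((S : Subgroup G).subgroupOf H).index :=
    Odd.of_dvd_nat (Nat.not_even_iff_odd.mp fun he => S.not_dvd_index (even_iff_two_dvd.mp he))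
      (Subgroup.relIndex_dvd_index_of_le hSH)
  haveI hHsolv : Group.IsSolvable H := by
    haveI := hSHp.isNilpotent
    exact FTApps.isSolvable_of_odd_index h.ft ((S : Subgroup G).subgroupOf H) inferInstance hidx
  obtain ⟨n0, hn0⟩ := hSHp.exists_card_eq
  obtain ⟨K1, hK1⟩ := Subgroup.exists_right_complement'_of_coprime
    (N := (S : Subgroup G).subgroupOf H)
    (by rw [hn0]; exact (Nat.coprime_two_left.mpr hidx).pow_left n0)
  set K := K1.map H.subtype with hKdef
  have hKodd : Odd (Nat.card K) := by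
    rw [hKdef, Subgroup.card_map_of_injective H.subtype_injective, ← hK1.symm.index_eq_card]
    exact hidx
  have hKC : K ≤ cV G := fun g hg =>
    h.mem_cV_of_orderOf_odd (hKodd.of_dvd_nat (Subgroup.orderOf_dvd_natCard K hg))
  have hdec : ∀ g ∈ H, ∃ s ∈ S, ∃ k ∈ K, g = s * k := fun g hg => by
    obtain ⟨⟨s, k⟩, e⟩ := (Subgroup.isComplement'_def.mp hK1).2 ⟨g, hg⟩
    exact ⟨s.1, s.2, k.1, ⟨k.1, k.2, rfl⟩, (congrArg Subtype.val e).symm⟩
  have hKH : K ≤ H := Subgroup.map_subtype_le K1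
  -- an element of `S` outside the centraliser
  obtain ⟨x0, hx0S, hx0C⟩ : ∃ x ∈ S, x ∉ cV G := by
    by_contra hh
    push Not at hh
    refine h.ne_top (Subgroup.eq_top_iff' _ |>.mpr fun g => ?_)
    obtain ⟨k, hk⟩ := h.pow_cV g
    refine h.mem_cV_of_odd (m := (S : Subgroup G).index * 1)
      (by rw [mul_one]; exact Nat.not_even_iff_odd.mp fun he => S.not_dvd_index (even_iff_two_dvd.mp he)) ?_
    rw [mul_one]
    have h1 : (S : Subgroup G) ≤ cV G := hh
    have h2 : (cV G).index ∣ (S : Subgroup G).index := Subgroup.index_dvd_of_le h1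
    obtain ⟨c, hc⟩ := h2
    rw [hc, pow_mul]
    exact pow_mem (Subgroup.pow_index_mem (cV G) g) c
  -- move it to a fixed point of `K`
  have hKn : K ≤ Subgroup.normalizer (((S : Subgroup G) ⊓ cV G : Subgroup G) : Set G) := fun g hg =>
    Subgroup.mem_normalizer_iff.mpr fun y => by
      have h1 := Subgroup.mem_normalizer_iff.mp (hKH hg) y
      constructor
      · rintro ⟨a, b⟩; exact ⟨h1.mp a, h.normal_cV.conj_mem y b g⟩
      · rintro ⟨a, b⟩
        refine ⟨h1.mpr a, ?_⟩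
        have := h.normal_cV.conj_mem' _ b g
        simpa [mul_assoc] using this
  have hcop : (Nat.card K).Coprime (Nat.card ↥((S : Subgroup G) ⊓ cV G)) := by
    obtain ⟨i, hi⟩ := (S.isPGroup'.to_le (inf_le_left : (S : Subgroup G) ⊓ cV G ≤ S)).exists_card_eq
    rw [hi]
    exact (Nat.coprime_two_right.mpr hKodd).pow_right i
  obtain ⟨n, hn, hnx⟩ := CfsgLib.Coprime.exists_mul_mem_centralizer hKn hcop
    (Or.inl (h.ft K hKodd)) (k := x0) (fun g hg => by
      rw [commutatorElement_def]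
      exact Subgroup.mem_inf.mpr
        ⟨mul_mem ((Subgroup.mem_normalizer_iff.mp (hKH hg) x0).mp hx0S) (inv_mem hx0S),
          h.comm_mem g x0⟩)
  obtain ⟨hnS, hnC⟩ := Subgroup.mem_inf.mp hn
  set x := n * x0 with hx
  have hxS : x ∈ S := mul_mem hnS hx0S
  have hxC : x ∉ cV G := fun hh => hx0C (by
    have := mul_mem (inv_mem hnC) hh; rwa [hx, inv_mul_cancel_left] at this)
  -- the involution of the power
  obtain ⟨i, hi⟩ := S.isPGroup' ⟨x, hxS⟩
  have hex : ∃ j, x ^ 2 ^ (j + 1) ∈ pCore 2 G := ⟨i, by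
    rw [pow_succ, pow_mul, show x ^ 2 ^ i = 1 from congrArg Subtype.val hi, one_pow]
    exact one_mem _⟩
  set j := Nat.find hex with hj
  set y := x ^ 2 ^ j with hy
  have hy2 : y * y ∈ pCore 2 G := by
    rw [hy, ← pow_add, ← two_mul, ← pow_succ']; exact Nat.find_spec hex
  have hyV : y ∉ pCore 2 G := by
    intro hh
    rcases hj0 : j with _ | j'
    · rw [hy, hj0, pow_zero, pow_one] at hh
      exact hxC (h.le_cV hh)
    · exact Nat.find_min hex (show j' < Nat.find hex by omega) (by rw [← hj0]; exact hh)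
  have hyC : y ∈ cV G := by_contra fun hh => hno y hh hy2
  rcases h.exists_invol_of_sq hyC hyV hy2 with hle | ⟨c, hc, hu2, huV⟩
  · refine hxC (Subgroup.mem_centralizer_iff.mpr fun a ha => ?_)
    obtain ⟨r, rfl⟩ := Subgroup.mem_zpowers_iff.mp (hle ha)
    exact (((Commute.refl x).pow_left (2 ^ j)).zpow_left r).eq
  set u := y * c with hu
  have huS : u ∈ S := mul_mem (pow_mem hxS _) (h.le_sylow S hc)
  have huC : u ∈ cV G := mul_mem hyC (h.le_cV hc)
  have huK : ∀ k ∈ K, k * u * k⁻¹ = u := by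
    intro k hk
    have h1 : k * x = x * k := Subgroup.mem_centralizer_iff.mp hnx k hk
    have h2 : k * y = y * k := ((show Commute k x from h1).pow_right (2 ^ j)).eq
    have h3 : c * k = k * c := Subgroup.mem_centralizer_iff.mp (hKC hk) c hc
    rw [hu, ← mul_assoc, h2, mul_assoc y k c, ← h3]; group
  obtain ⟨T, hT⟩ := exists_other_sylow h.ft h.ns S
  obtain ⟨ut, hutT, hutC, hut2, hutV, -⟩ := h.exists_u T
  -- the involutions of `S`
  have hrel : ∀ u1, u1 ∈ S → u1 ∈ cV G → u1 * u1 = 1 → u1 ∉ pCore 2 G →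
      ∃ s ∈ S, s * u * s⁻¹ = u1 ∨ s * u * s⁻¹ = u1 * z := by
    intro u1 h1S h1C h1 h1V
    obtain ⟨a, ha⟩ := h.fusion hT.symm h1S hutT h1 hut2 h1V hutV h1C hutC
    obtain ⟨b, hb⟩ := h.fusion hT.symm huS hutT hu2 hut2 huV hutV huC hutC
    have hg : (a⁻¹ * b) * u * (a⁻¹ * b)⁻¹ = u1 ∨ (a⁻¹ * b) * u * (a⁻¹ * b)⁻¹ = u1 * z := by
      have e : (a⁻¹ * b) * u * (a⁻¹ * b)⁻¹ = a⁻¹ * (b * u * b⁻¹) * a := by group
      have f1 : ∀ r, a * u1 * a⁻¹ = r → a⁻¹ * r * a = u1 := fun r hr => by rw [← hr]; group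
      have f2 : ∀ r, a⁻¹ * (r * z) * a = a⁻¹ * r * a * z := fun r => by
        rw [← mul_assoc, mul_assoc _ z a, ← h.z_comm a, ← mul_assoc]
      rcases ha with ha | ha <;> rcases hb with hb | hb
      · exact Or.inl (by rw [e, hb, f1 _ ha])
      · exact Or.inr (by rw [e, hb, f2, f1 _ ha])
      · refine Or.inr ?_
        rw [e, hb, show ut = ut * z * z by rw [mul_assoc, h.z_sq, mul_one], f2, f1 _ ha]
      · exact Or.inl (by rw [e, hb, f1 _ ha])
    set g := a⁻¹ * b with hgdef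
    have hgH : g ∈ H := by
      refine Sylow.smul_eq_iff_mem_normalizer.mp (h.unique_invol h1 h1V ?_ h1S)
      have h4 : g * u * g⁻¹ ∈ g • S := ⟨u, huS, rfl⟩
      rcases hg with e | e
      · rwa [e] at h4
      · rw [e] at h4
        have := mul_mem h4 (h.le_sylow (g • S) h.z_mem)
        rwa [mul_assoc, h.z_sq, mul_one] at this
    obtain ⟨s, hs, k, hk, e⟩ := hdec g hgH
    refine ⟨s, hs, ?_⟩
    have e' : g * u * g⁻¹ = s * u * s⁻¹ := by
      rw [e, show s * k * u * (s * k)⁻¹ = s * (k * u * k⁻¹) * s⁻¹ by group, huK k hk]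
    rwa [e'] at hg
  obtain ⟨ue, hueS, hueC, hue2, hueV, hueS'⟩ := h.exists_u S
  obtain ⟨s0, hs0, hse⟩ := hrel ue hueS hueC hue2 hueV
  have hzz : ∀ a : G, a * z * z = a := fun a => by rw [mul_assoc, h.z_sq, mul_one]
  have hu_ue : u = ue ∨ u = ue * z := by
    have e : u = s0⁻¹ * (s0 * u * s0⁻¹) * s0 := by group
    have hb := hueS' s0⁻¹ (inv_mem hs0)
    rw [inv_inv] at hb
    rcases hse with r | r <;> rw [r] at e
    · rcases hb with q | q
      · exact Or.inl (by rw [e, q])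
      · exact Or.inr (by rw [e, q])
    · have hb' := h.conj_shift (g := s0⁻¹) (a := ue) (by rw [inv_inv]; exact hb)
      rw [inv_inv, hzz] at hb'
      rcases hb' with q | q
      · exact Or.inr (by rw [e, q])
      · exact Or.inl (by rw [e, q])
  have hSu : ∀ s ∈ S, s * u * s⁻¹ = u ∨ s * u * s⁻¹ = u * z := fun s hs => by
    rcases hu_ue with r | r <;> rw [r]
    · exact hueS' s hs
    · exact h.conj_shift (hueS' s hs)
  have hall : ∀ u1, u1 ∈ S → u1 ∈ cV G → u1 * u1 = 1 → u1 ∉ pCore 2 G → u1 = u ∨ u1 = u * z := by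
    intro u1 a1 a2 a3 a4
    obtain ⟨s, hs, r⟩ := hrel u1 a1 a2 a3 a4
    rcases hSu s hs with q | q <;> rw [q] at r <;> rcases r with r | r
    · exact Or.inl r.symm
    · exact Or.inr (by rw [r, hzz])
    · exact Or.inr r.symm
    · exact Or.inl (mul_right_cancel r).symm
  -- apply the `Z*` theorem modulo the central involution
  set Z := Subgroup.zpowers z with hZdef
  haveI hZn : Z.Normal := ⟨fun a ha g => by
    have : a ∈ Subgroup.center G := (Subgroup.zpowers_le.mpr h.z_central) ha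
    rw [Subgroup.mem_center_iff.mp this g, mul_inv_cancel_right]; exact ha⟩
  have hZmem : ∀ a, a ∈ Z → a = 1 ∨ a = z := fun a ha => by
    refine h.eq_one_or_z (Subgroup.zpowers_le.mpr h.z_mem ha) ?_
    obtain ⟨r, rfl⟩ := Subgroup.mem_zpowers_iff.mp ha
    rw [← (Commute.refl z).mul_zpow, h.z_sq, one_zpow]
  set π := QuotientGroup.mk' Z with hπ
  have hπz : π z = 1 := (QuotientGroup.eq_one_iff z).mpr (Subgroup.mem_zpowers z)
  have hnorm : ∀ g, (∃ e, e ∈ Z ∧ g * u * g⁻¹ = u * e) → g ∈ H := by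
    rintro g ⟨e, he, hge⟩
    refine Sylow.smul_eq_iff_mem_normalizer.mp (h.unique_invol hu2 huV ?_ huS)
    have h4 : g * u * g⁻¹ ∈ g • S := ⟨u, huS, rfl⟩
    rw [hge] at h4
    have := mul_mem h4 (inv_mem (h.le_sylow (g • S) (Subgroup.zpowers_le.mpr h.z_mem he)))
    rwa [mul_inv_cancel_right] at this
  have hiso : Cfsg.IsIsolatedInvolution (π u) := by
    refine ⟨orderOf_eq_prime (by rw [pow_two, ← map_mul, hu2, map_one]) (fun e => huV
      (Subgroup.zpowers_le.mpr h.z_mem ((QuotientGroup.eq_one_iff u).mp e))), fun q hq => ?_⟩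
    obtain ⟨g, rfl⟩ := QuotientGroup.mk'_surjective Z q
    rw [← map_inv, ← map_mul, ← map_mul] at hq ⊢
    set a := g * u * g⁻¹ with ha
    have ha2 : a * a = 1 := by
      calc a * a = g * (u * u) * g⁻¹ := by rw [ha]; group
        _ = 1 := by rw [hu2]; group
    have hcm : (u * a)⁻¹ * (a * u) ∈ Z := QuotientGroup.eq.mp (show π (u * a) = π (a * u) by
      rw [map_mul, map_mul]; exact hq.eq)
    have haH : a ∈ H := by
      refine hnorm a ⟨u⁻¹ * (a * u * a⁻¹), ?_, by group⟩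
      have : u⁻¹ * (a * u * a⁻¹) = a * ((u * a)⁻¹ * (a * u)) * a⁻¹ := by group
      rw [this]
      exact hZn.conj_mem _ hcm a
    have haS : a ∈ S := mem_sylow_of_normalizes
      (isPGroup_zpowers_of_pow (k := 1) (by rw [pow_one, pow_two, ha2])) S haH
    have haV : a ∉ pCore 2 G := fun hh => huV (by
      have := (CfsgLib.Solvable.Cores.pCore_normal (G := G) 2).conj_mem' a hh g
      rwa [ha, show g⁻¹ * (g * u * g⁻¹) * g = u by group] at this)
    rcases hall a haS (h.normal_cV.conj_mem u huC g) ha2 haV with r | r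
    · rw [r]
    · rw [r, map_mul, hπz, mul_one]
  have hfac := CfsgLib.Involution.ZStar.exists_oddCore_mul_centralizer
    (CfsgLib.Involution.ZStar.starCentral (G ⧸ Z)) hiso
  haveI := CfsgLib.Involution.ZStar.oddCore_normal (G := G ⧸ Z)
  set O := Cfsg.oddCore (G ⧸ Z) with hO
  have hHsurj : Function.Surjective ((QuotientGroup.mk' O).comp (π.comp H.subtype)) := by
    intro q
    obtain ⟨q', rfl⟩ := QuotientGroup.mk'_surjective O q
    obtain ⟨o, ho, c, hc, rfl⟩ := hfac q'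
    obtain ⟨g, rfl⟩ := QuotientGroup.mk'_surjective Z c
    have hgH : g ∈ H := by
      refine hnorm g ⟨u⁻¹ * (g * u * g⁻¹), ?_, by group⟩
      rw [← QuotientGroup.eq_one_iff (N := Z)]
      have h5 := Subgroup.mem_centralizer_singleton_iff.mp hc
      change π (u⁻¹ * (g * u * g⁻¹)) = 1
      rw [map_mul, map_mul, map_mul, map_inv, map_inv, show π g * π u = π u * π g from h5]; group
    refine ⟨⟨g, hgH⟩, ?_⟩
    simp only [MonoidHom.comp_apply, Subgroup.coe_subtype, map_mul]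
    rw [show QuotientGroup.mk' O o = 1 from (QuotientGroup.eq_one_iff o).mpr ho, one_mul]
  haveI : Group.IsSolvable ((G ⧸ Z) ⧸ O) := Group.isSolvable_of_surjective hHsurj
  haveI : Group.IsSolvable O := h.ft O CfsgLib.Involution.ZStar.odd_card_oddCore
  haveI : Group.IsSolvable (G ⧸ Z) :=
    Group.isSolvable_of_ker_le_range O.subtype (QuotientGroup.mk' O) (by simp)
  haveI : Group.IsSolvable Z := Group.isSolvable_of_comm fun a b => mul_comm' a b
  exact h.ns (Group.isSolvable_of_ker_le_range Z.subtype (QuotientGroup.mk' Z) (by simp))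

end Ctx

end CfsgLib.LocalEvenB.CyclicInter
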