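import Mathlib
import Cfsg.Agent.Lib.LocalEvenB.CyclicIntersections.CaseOne
import Cfsg.Agent.Lib.LocalEvenB.CyclicIntersections.CaseTwo
import Cfsg.Agent.S3305

/-!
# The solvable radical of a group with cyclic Sylow 2-intersections
-/

set_option autoImplicit false
set_option linter.style.haveILetI false

open Cfsg

namespace CfsgLib.LocalEvenB.CyclicInter

universe u

theorem pCore_central_aux (hFT : FTApps.OddSolvable.{u}) : ∀ (n : ℕ) (G : Type u) [Group G]
    [Finite G], Nat.card G = n → ¬ Group.IsSolvable G → CI G → pCore 2 G ≤ Subgroup.center G := by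
  intro n
  induction n using Nat.strong_induction_on with
  | _ n ih =>
    intro G _ _ hn hns hC
    by_contra hne
    obtain ⟨z, v, h⟩ := Ctx.mk' hFT hns hC hne
    by_cases hx : ∃ x : G, x ∉ cV G ∧ x * x ∈ pCore 2 G
    · obtain ⟨x, hxC, hx2⟩ := hx
      refine h.case_one (fun H hH hHs => ih (Nat.card H) ?_ H rfl hHs (hC.subgroup H)) hxC hx2
      rw [← hn]
      exact lt_of_le_of_ne (Subgroup.card_le_card_group H)
        fun e => hH (Subgroup.eq_top_of_card_eq H e)
    · push Not at hx
      exact h.case_two hx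

/-- The two conclusions about a solvable normal subgroup. -/
theorem main (hFT : FTApps.OddSolvable.{u}) {G : Type u} [Group G] [Finite G]
    (hns : ¬ Group.IsSolvable G) (hC : CI G) (N : Subgroup G) [N.Normal]
    (hN : Group.IsSolvable N) :
    IsCyclic ↥(N.map (QuotientGroup.mk' (Cfsg.oddCore G))) ∧
      IsPGroup 2 ↥(N.map (QuotientGroup.mk' (Cfsg.oddCore G))) ∧
      N.map (QuotientGroup.mk' (Cfsg.oddCore G)) ≤ Subgroup.center (G ⧸ Cfsg.oddCore G) := by
  haveI : Fact (Nat.Prime 2) := ⟨Nat.prime_two⟩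
  haveI := CfsgLib.Involution.ZStar.oddCore_normal (G := G)
  set O := Cfsg.oddCore G with hO
  set π := QuotientGroup.mk' O
  have hπ : Function.Surjective π := QuotientGroup.mk'_surjective O
  have hns' : ¬ Group.IsSolvable (G ⧸ O) := fun hs => hns (by
    haveI := hs
    haveI : Group.IsSolvable O := hFT O CfsgLib.Involution.ZStar.odd_card_oddCore
    exact Group.isSolvable_of_ker_le_range O.subtype π (by simp [π]))
  have hC' : CI (G ⧸ O) := Cfsg.Agent.S3305.result hC O
  have hcen := pCore_central_aux hFT _ (G ⧸ O) rfl hns' hC'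
  have hcyc := isCyclic_pCore hFT hns' hC'
  set M := N.map π with hM
  haveI : M.Normal := Subgroup.Normal.map inferInstance π hπ
  haveI : Group.IsSolvable M :=
    Group.isSolvable_of_surjective (f := π.subgroupMap N) (π.subgroupMap_surjective N)
  have hfit : fittingSubgroup (G ⧸ O) ≤ pCore 2 (G ⧸ O) := by
    rw [CfsgLib.Solvable.Cores.fittingSubgroup_eq_iSup_pCore]
    refine iSup_le fun p => ?_
    haveI := Fact.mk p.2
    by_cases hp : (p : ℕ) = 2
    · rw [hp]
    · have h1 : pCore (p : ℕ) (G ⧸ O) ≤ Cfsg.oddCore (G ⧸ O) :=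
        CfsgLib.Solvable.Cores.pCore_le_pPrimeCore Nat.prime_two hp
      rw [CfsgLib.Involution.ZStar.oddCore_quotient] at h1
      exact h1.trans bot_le
  have hFM : (fittingSubgroup M).map M.subtype ≤ pCore 2 (G ⧸ O) :=
    (CfsgLib.Solvable.Cores.map_fittingSubgroup_le M).trans hfit
  have htop : (⊤ : Subgroup M) ≤ fittingSubgroup M := by
    refine le_trans (fun m _ => ?_) CfsgLib.Solvable.Cores.centralizer_fittingSubgroup_le
    refine Subgroup.mem_centralizer_iff.mpr fun f hf => Subtype.ext ?_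
    exact (Subgroup.mem_center_iff.mp (hcen (hFM ⟨f, hf, rfl⟩)) m).symm
  have hle : M ≤ pCore 2 (G ⧸ O) := fun m hm => hFM ⟨⟨m, hm⟩, htop (Subgroup.mem_top _), rfl⟩
  haveI := hcyc
  exact ⟨Subgroup.isCyclic_of_le hle, (CfsgLib.Solvable.Cores.isPGroup_pCore 2).to_le hle,
    hle.trans hcen⟩

end CfsgLib.LocalEvenB.CyclicInter
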